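import Cfsg.Agent.Lib.Derangement.Reduction

/-!
Analysis of a transitive abelian normal subgroup: cosets and derangements.
-/

set_option autoImplicit false

namespace Cfsg.Agent.Lib.Derangement

open MulAction

variable {G : Type*} [Group G] {Ω : Type*} [MulAction G Ω]

section
variable [FaithfulSMul G Ω] {N : Subgroup G} (hab : ∀ x ∈ N, ∀ y ∈ N, x * y = y * x)
  (TN : Trans N Ω)
include hab TN

theorem semireg {n : G} (hn : n ∈ N) {ω : Ω} (h : n • ω = ω) : n = 1 :=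
  eq_one_of_commute_of_fix TN (fun s hs => hab n hn s hs) h

theorem der_of_mem {n : G} (hn : n ∈ N) (h1 : n ≠ 1) : Der Ω n :=
  fun _ h => h1 (semireg hab TN hn h)

theorem eq_of_smul_eq {x y : G} (hx : x ∈ N) (hy : y ∈ N) {ω : Ω} (h : x • ω = y • ω) : x = y := by
  have : (x⁻¹ * y) • ω = ω := by rw [mul_smul, ← h, inv_smul_smul]
  have h1 := semireg hab TN (N.mul_mem (N.inv_mem hx) hy) this
  rw [inv_mul_eq_one] at h1
  exact h1

/-- The auxiliary map of a coset: to `ω` attach the element `n` of `N` with `z * n` fixing `ω`,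
evaluated at the base point `α`. -/
theorem coset_aux (z : G) : ∃ f : Ω → G, (∀ ω, f ω ∈ N) ∧ (∀ ω, (z * f ω) • ω = ω) ∧
    ∀ ω, ∀ n ∈ N, (z * n) • ω = ω → n = f ω := by
  choose f hf hf2 using fun ω => TN ω (z⁻¹ • ω)
  refine ⟨f, hf, ?_, ?_⟩
  · intro ω
    rw [mul_smul, hf2, smul_inv_smul]
  · intro ω n hn h
    have h1 : n • ω = z⁻¹ • ω := by
      rw [eq_inv_smul_iff, ← mul_smul]; exact h
    exact eq_of_smul_eq hab TN hn (hf ω) (h1.trans (hf2 ω).symm)

theorem coset_inj [Finite Ω] (z : G) (hz : ∀ n ∈ N, ¬ Der Ω (z * n)) {n : G} (hn : n ∈ N)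
    {ω ω' : Ω} (h : (z * n) • ω = ω) (h' : (z * n) • ω' = ω') : ω = ω' := by
  obtain ⟨f, hfN, hf, hfu⟩ := coset_aux hab TN z
  have hF : Function.Surjective (fun ξ => f ξ • ω) := by
    intro ξ
    obtain ⟨m, hm, rfl⟩ := TN ω ξ
    have := hz m hm
    simp only [Der, not_forall, not_not] at this
    obtain ⟨η, hη⟩ := this
    refine ⟨η, ?_⟩
    simp only
    rw [← hfu η m hm hη]
  have hFi := Finite.injective_iff_surjective.mpr hF
  apply hFi
  simp only
  rw [← hfu ω n hn h, ← hfu ω' n hn h']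

theorem der_two [Finite Ω] {z : G} (hz : Der Ω z) [Nonempty Ω] :
    ∃ n ∈ N, ∃ ω ω' : Ω, ω ≠ ω' ∧ (z * n) • ω = ω ∧ (z * n) • ω' = ω' := by
  obtain ⟨f, hfN, hf, hfu⟩ := coset_aux hab TN z
  obtain ⟨α⟩ := ‹Nonempty Ω›
  have hF : ¬ Function.Surjective (fun ξ => f ξ • α) := by
    intro hs
    obtain ⟨ξ, hξ⟩ := hs α
    have : f ξ = 1 := semireg hab TN (hfN ξ) hξ
    apply hz ξ
    have h2 := hf ξ
    rwa [this, mul_one] at h2
  rw [← Finite.injective_iff_surjective, Function.Injective] at hF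
  push Not at hF
  obtain ⟨ω, ω', he, hne⟩ := hF
  have he' : f ω = f ω' := eq_of_smul_eq hab TN (hfN _) (hfN _) he
  refine ⟨f ω, hfN _, ω, ω', hne, hf ω, ?_⟩
  rw [he']
  exact hf ω'

theorem two_trans_of_conj (hconj : ∀ x ∈ N, ∀ y ∈ N, x ≠ 1 → y ≠ 1 → IsConj x y) :
    IsMultiplyPretransitive G Ω 2 := by
  rw [is_two_pretransitive_iff]
  intro a b c d hab' hcd
  obtain ⟨n₁, hn₁, h1⟩ := TN a b
  obtain ⟨n₂, hn₂, h2⟩ := TN c d
  have hn₁1 : n₁ ≠ 1 := by
    rintro rfl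
    exact hab' (by simpa using h1)
  have hn₂1 : n₂ ≠ 1 := by
    rintro rfl
    exact hcd (by simpa using h2)
  obtain ⟨g, hg⟩ := isConj_iff.mp (hconj n₁ hn₁ n₂ hn₂ hn₁1 hn₂1)
  obtain ⟨k, hk, hk2⟩ := TN (g • a) c
  refine ⟨k * g, by rw [mul_smul, hk2], ?_⟩
  have h3 : (k * g) • b = (k * (g * n₁ * g⁻¹)) • (g • a) := by
    rw [← h1]; simp [mul_smul]
  rw [h3, hg, hab k hk n₂ hn₂, mul_smul, hk2, h2]

/-- Counting the stabilizer orbits on the non-base points. -/
theorem count_stabilizer [Finite Ω] (hNn : N.Normal) (α : Ω) {ι : Type*} [Finite ι] (c : ι → G)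
    (hcN : ∀ i, c i ∈ N) (hc1 : ∀ i, c i ≠ 1) (hnc : ∀ i j, IsConj (c i) (c j) → i = j)
    (hcov : ∀ n ∈ N, n ≠ 1 → ∃ i, IsConj (c i) n)
    (hfix : ∀ g : G, g ≠ 1 → ∀ ω ω' : Ω, g • ω = ω → g • ω' = ω' → ω = ω') :
    Nat.card (MulAction.stabilizer G α) * Nat.card ι = Nat.card {ω : Ω // ω ≠ α} := by
  have hmove : ∀ i, c i • α ≠ α := fun i => der_of_mem hab TN (hcN i) (hc1 i) α
  let ψ : (MulAction.stabilizer G α) × ι → {ω : Ω // ω ≠ α} := fun p =>
    ⟨(p.1 : G) • c p.2 • α, by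
      intro h
      have hs : (p.1 : G) • α = α := p.1.2
      have h' : (p.1 : G) • c p.2 • α = (p.1 : G) • α := h.trans hs.symm
      exact hmove p.2 (smul_left_cancel _ h')⟩
  have hψ : Function.Bijective ψ := by
    constructor
    · rintro ⟨⟨h, hh⟩, i⟩ ⟨⟨h', hh'⟩, i'⟩ he
      have hh1 : h • α = α := hh
      have hh1' : h' • α = α := hh'
      have he' : h • c i • α = h' • c i' • α := congrArg Subtype.val he
      -- the conjugate
      have hconj : h⁻¹ * h' * c i' * (h⁻¹ * h')⁻¹ = c i := by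
        apply eq_of_smul_eq hab TN (ω := α)
        · exact hNn.conj_mem _ (hcN i') _
        · exact hcN i
        · have h1 : (h⁻¹ * h')⁻¹ • α = α := by
            simp only [mul_inv_rev, inv_inv, mul_smul, hh1]
            rw [inv_smul_eq_iff, hh1']
          simp only [mul_smul] at h1 ⊢
          rw [h1, ← he']
          simp
      have hii : i' = i := hnc i' i (isConj_iff.mpr ⟨_, hconj⟩)
      subst hii
      have hu : h⁻¹ * h' = 1 := by
        by_contra hne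
        apply hmove i'
        refine hfix _ hne _ _ ?_ ?_
        · rw [mul_smul, ← he', inv_smul_smul]
        · rw [mul_smul, hh1', inv_smul_eq_iff, hh1]
      have : h = h' := by rwa [inv_mul_eq_one] at hu
      subst this
      rfl
    · rintro ⟨ω, hω⟩
      obtain ⟨n, hn, rfl⟩ := TN α ω
      have hn1 : n ≠ 1 := by
        rintro rfl
        exact hω (by simp)
      obtain ⟨i, hi⟩ := hcov n hn hn1
      obtain ⟨g, rfl⟩ := isConj_iff.mp hi
      obtain ⟨k, hk, hk2⟩ := TN (g • α) α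
      have hkg : (k * g) • α = α := by rw [mul_smul, hk2]
      refine ⟨⟨⟨k * g, hkg⟩, i⟩, ?_⟩
      apply Subtype.ext
      simp only [ψ]
      have hmem : g * c i * g⁻¹ ∈ N := hNn.conj_mem _ (hcN i) g
      calc (k * g) • c i • α = (k * (g * c i * g⁻¹)) • (g • α) := by simp [mul_smul]
        _ = ((g * c i * g⁻¹) * k) • (g • α) := by rw [hab k hk _ hmem]
        _ = (g * c i * g⁻¹) • (k • g • α) := by rw [mul_smul]
        _ = (g * c i * g⁻¹) • α := by rw [hk2]
  have hc1 := Nat.card_congr (Equiv.ofBijective ψ hψ)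
  rwa [Nat.card_prod] at hc1

end

theorem noThree_of_card_two {G : Type*} [Group G] {Ω : Type*} [MulAction G Ω]
    (hκ : Nat.card {c : ConjClasses G // ∃ g : G, ConjClasses.mk g = c ∧ ∀ ω : Ω, g • ω ≠ ω} = 2) :
    NoThree G Ω := by
  intro x y z hx hy hz
  let X : {c : ConjClasses G // ∃ g : G, ConjClasses.mk g = c ∧ ∀ ω : Ω, g • ω ≠ ω} :=
    ⟨ConjClasses.mk x, x, rfl, hx⟩
  let Y : {c : ConjClasses G // ∃ g : G, ConjClasses.mk g = c ∧ ∀ ω : Ω, g • ω ≠ ω} :=
    ⟨ConjClasses.mk y, y, rfl, hy⟩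
  let Z : {c : ConjClasses G // ∃ g : G, ConjClasses.mk g = c ∧ ∀ ω : Ω, g • ω ≠ ω} :=
    ⟨ConjClasses.mk z, z, rfl, hz⟩
  rw [Nat.card_eq_two_iff] at hκ
  obtain ⟨A, B, hAB, huniv⟩ := hκ
  have hmem : ∀ C, C = A ∨ C = B := by
    intro C
    have : C ∈ ({A, B} : Set _) := by rw [huniv]; trivial
    simpa using this
  have key : X = Y ∨ X = Z ∨ Y = Z := by
    rcases hmem X with h1 | h1 <;> rcases hmem Y with h2 | h2 <;> rcases hmem Z with h3 | h3 <;>
      simp [h1, h2, h3]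
  rcases key with h | h | h
  · left; exact ConjClasses.mk_eq_mk_iff_isConj.mp (congrArg Subtype.val h)
  · right; left; exact ConjClasses.mk_eq_mk_iff_isConj.mp (congrArg Subtype.val h)
  · right; right; exact ConjClasses.mk_eq_mk_iff_isConj.mp (congrArg Subtype.val h)

theorem noThree_of_card_one {G : Type*} [Group G] {Ω : Type*} [MulAction G Ω]
    (hκ : Nat.card {c : ConjClasses G // ∃ g : G, ConjClasses.mk g = c ∧ ∀ ω : Ω, g • ω ≠ ω} = 1) :
    ∀ x y : G, Der Ω x → Der Ω y → IsConj x y := by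
  intro x y hx hy
  rw [Nat.card_eq_one_iff_unique] at hκ
  have := hκ.1
  have h : (⟨ConjClasses.mk x, x, rfl, hx⟩ :
      {c : ConjClasses G // ∃ g : G, ConjClasses.mk g = c ∧ ∀ ω : Ω, g • ω ≠ ω}) =
      ⟨ConjClasses.mk y, y, rfl, hy⟩ := Subsingleton.elim _ _
  exact ConjClasses.mk_eq_mk_iff_isConj.mp (congrArg Subtype.val h)

end Cfsg.Agent.Lib.Derangement
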