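import Cfsg.Agent.Lib.Derangement.Basic

/-!
The reduction theorem: a finite faithful primitive group which is not almost simple, without three
pairwise non-conjugate derangements, has a transitive abelian normal subgroup.
-/

set_option autoImplicit false

namespace Cfsg.Agent.Lib.Derangement

open MulAction

variable {G : Type*} [Group G] {Ω : Type*} [MulAction G Ω]

/-- No three pairwise non-conjugate derangements. -/
def NoThree (G : Type*) [Group G] (Ω : Type*) [MulAction G Ω] : Prop :=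
  ∀ x y z : G, Der Ω x → Der Ω y → Der Ω z → IsConj x y ∨ IsConj x z ∨ IsConj y z

/-- Order of the centraliser of `x` in `N`. -/
noncomputable def cent (N : Subgroup G) (x : G) : ℕ := Nat.card ↥(N ⊓ Subgroup.centralizer {x})

theorem cent_conj [Finite G] (N : Subgroup G) [N.Normal] {x y : G} (h : IsConj x y) :
    cent N x = cent N y := by
  obtain ⟨c, rfl⟩ := isConj_iff.mp h
  have hmap : (N ⊓ Subgroup.centralizer {c * x * c⁻¹}) =
      (N ⊓ Subgroup.centralizer {x}).map (MulAut.conj c).toMonoidHom := by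
    ext z
    simp only [Subgroup.mem_inf, Subgroup.mem_map, Subgroup.mem_centralizer_singleton_iff]
    constructor
    · rintro ⟨hz, hz2⟩
      refine ⟨c⁻¹ * z * c, ⟨?_, ?_⟩, ?_⟩
      · simpa using (inferInstance : N.Normal).conj_mem z hz c⁻¹
      · have : z * (c * x * c⁻¹) = c * x * c⁻¹ * z := hz2
        calc c⁻¹ * z * c * x = c⁻¹ * (z * (c * x * c⁻¹)) * c := by group
          _ = c⁻¹ * (c * x * c⁻¹ * z) * c := by rw [this]
          _ = x * (c⁻¹ * z * c) := by group
      · simp [MulAut.conj_apply]; group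
    · rintro ⟨w, ⟨hw, hw2⟩, rfl⟩
      refine ⟨?_, ?_⟩
      · simpa [MulAut.conj_apply] using (inferInstance : N.Normal).conj_mem w hw c
      · have : w * x = x * w := hw2
        simp only [MulEquiv.coe_toMonoidHom, MulAut.conj_apply]
        calc c * w * c⁻¹ * (c * x * c⁻¹) = c * (w * x) * c⁻¹ := by group
          _ = c * (x * w) * c⁻¹ := by rw [this]
          _ = c * x * c⁻¹ * (c * w * c⁻¹) := by group
  unfold cent
  rw [hmap]
  exact (Subgroup.card_map_of_injective (MulEquiv.injective _)).symm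

theorem cent_lt [Finite G] {N M : Subgroup G} (hMN : M ≤ N)
    (hZ : ∀ z ∈ M, (∀ m ∈ M, z * m = m * z) → z = 1)
    (hdec : ∀ y ∈ N, ∃ a ∈ M, ∃ c, (∀ m ∈ M, c * m = m * c) ∧ y = a * c)
    {u : G} (hu : ∀ m ∈ M, u * m = m * u) {m : G} (hm : m ∈ M) (hm1 : m ≠ 1) :
    cent N (u * m) < cent N u := by
  unfold cent
  have hle : (N ⊓ Subgroup.centralizer {u * m}) < (N ⊓ Subgroup.centralizer {u}) := by
    rw [SetLike.lt_iff_le_and_exists]
    constructor
    · intro y hy
      simp only [Subgroup.mem_inf, Subgroup.mem_centralizer_singleton_iff] at hy ⊢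
      obtain ⟨hyN, hy2⟩ := hy
      refine ⟨hyN, ?_⟩
      obtain ⟨a, ha, c, hc, rfl⟩ := hdec y hyN
      have e1 : a * m * (c * u) = m * a * (u * c) := by
        have e2 : a * c * (u * m) = u * m * (a * c) := hy2
        calc a * m * (c * u) = a * (m * c) * u := by group
          _ = a * (c * m) * u := by rw [hc m hm]
          _ = a * c * (m * u) := by group
          _ = a * c * (u * m) := by rw [hu m hm]
          _ = u * m * (a * c) := e2
          _ = u * (m * a) * c := by group
          _ = (m * a) * u * c := by rw [hu (m * a) (M.mul_mem hm ha)]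
          _ = m * a * (u * c) := by group
      set w := (m * a)⁻¹ * (a * m) with hw
      have hwM : w ∈ M := M.mul_mem (M.inv_mem (M.mul_mem hm ha)) (M.mul_mem ha hm)
      have hw2 : w = u * c * (c * u)⁻¹ := by
        rw [hw, eq_mul_inv_iff_mul_eq, mul_assoc, e1]; group
      have hw1 : w = 1 := by
        apply hZ w hwM
        intro k hk
        have h0 : c * u * k = k * (c * u) := by
          rw [mul_assoc, hu k hk, ← mul_assoc, hc k hk, mul_assoc]
        have h1 : (c * u)⁻¹ * k = k * (c * u)⁻¹ := by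
          calc (c * u)⁻¹ * k = (c * u)⁻¹ * (k * (c * u)) * (c * u)⁻¹ := by group
            _ = (c * u)⁻¹ * (c * u * k) * (c * u)⁻¹ := by rw [h0]
            _ = k * (c * u)⁻¹ := by group
        rw [hw2]
        calc u * c * (c * u)⁻¹ * k = u * c * ((c * u)⁻¹ * k) := by group
          _ = u * c * (k * (c * u)⁻¹) := by rw [h1]
          _ = u * (c * k) * (c * u)⁻¹ := by group
          _ = u * (k * c) * (c * u)⁻¹ := by rw [hc k hk]
          _ = (u * k) * c * (c * u)⁻¹ := by group
          _ = (k * u) * c * (c * u)⁻¹ := by rw [hu k hk]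
          _ = k * (u * c * (c * u)⁻¹) := by group
      have hcomm : u * c = c * u := by
        rw [hw1] at hw2
        exact (mul_inv_eq_one.mp hw2.symm)
      calc a * c * u = a * (c * u) := by group
        _ = a * (u * c) := by rw [hcomm]
        _ = (a * u) * c := by group
        _ = (u * a) * c := by rw [hu a ha]
        _ = u * (a * c) := by group
    · have hnz : ¬ ∀ k ∈ M, m * k = k * m := fun h => hm1 (hZ m hm h)
      push Not at hnz
      obtain ⟨a, ha, hne⟩ := hnz
      refine ⟨a, ?_, ?_⟩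
      · simp only [Subgroup.mem_inf, Subgroup.mem_centralizer_singleton_iff]
        exact ⟨hMN ha, (hu a ha).symm⟩
      · simp only [Subgroup.mem_inf, Subgroup.mem_centralizer_singleton_iff, not_and]
        intro _ h
        apply hne
        have h' : a * (u * m) = u * m * a := h
        have h3 : u * (a * m) = u * (m * a) := by
          calc u * (a * m) = (u * a) * m := by group
            _ = (a * u) * m := by rw [hu a ha]
            _ = a * (u * m) := by group
            _ = u * m * a := h'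
            _ = u * (m * a) := by group
        exact (mul_left_cancel h3).symm
  exact Set.ncard_lt_ncard hle (Set.toFinite _)

theorem orderOf_eq_of_isConj {x y : G} (h : IsConj x y) : orderOf x = orderOf y := by
  obtain ⟨c, rfl⟩ := isConj_iff.mp h
  have := orderOf_injective (MulAut.conj c).toMonoidHom (MulEquiv.injective _) x
  simpa [MulAut.conj_apply] using this.symm

/-- Step one: a normal subgroup with trivial centre has trivial centraliser. -/
theorem centralizer_eq_bot [Finite G] [FaithfulSMul G Ω] [IsPreprimitive G Ω] (h3 : NoThree G Ω)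
    {N : Subgroup G} [hNn : N.Normal] (hN : N ≠ ⊥)
    (hZ : ∀ z ∈ N, (∀ m ∈ N, z * m = m * z) → z = 1) :
    Subgroup.centralizer (N : Set G) = ⊥ := by
  by_contra hC
  have TN : Trans N Ω := trans_of_normal hN
  have TC : Trans (Subgroup.centralizer (N : Set G)) Ω := trans_of_normal hC
  obtain ⟨m₁, hm₁, m₂, hm₂, hp, hq, hpq⟩ := exists_two_primes hN hZ
  obtain ⟨⟨b, hb⟩, hb1'⟩ := Subgroup.ne_bot_iff_exists_ne_one.mp hC
  have hb1 : b ≠ 1 := fun h' => hb1' (by ext; simpa using h')
  have hbN : b ∉ N := by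
    intro hbN
    apply hb1
    apply hZ b hbN
    intro m hm
    exact ((Subgroup.mem_centralizer_iff.mp hb) m hm).symm
  have derN : ∀ m ∈ N, m ≠ 1 → Der Ω m := by
    intro m hm hm1 ω hω
    apply hm1
    apply eq_one_of_commute_of_fix TC _ hω
    intro s hs
    exact ((Subgroup.mem_centralizer_iff.mp hs) m hm)
  have derb : Der Ω b := by
    intro ω hω
    apply hb1
    apply eq_one_of_commute_of_fix TN _ hω
    intro s hs
    exact ((Subgroup.mem_centralizer_iff.mp hb) s hs).symm
  have hne : ∀ m : G, (orderOf m).Prime → m ≠ 1 := by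
    rintro m hm rfl
    simp at hm
    exact Nat.not_prime_one hm
  have hcN : ∀ m ∈ N, ¬ IsConj m b := by
    intro m hm hc
    obtain ⟨c, hc⟩ := isConj_iff.mp hc
    apply hbN
    rw [← hc]
    exact hNn.conj_mem m hm c
  rcases h3 m₁ m₂ b (derN _ hm₁ (hne _ hp)) (derN _ hm₂ (hne _ hq)) derb with h | h | h
  · exact hpq (orderOf_eq_of_isConj h)
  · exact hcN _ hm₁ h
  · exact hcN _ hm₂ h

/-- Step two: no minimal normal subgroup of `N` can be proper. -/
theorem no_proper_minimal [Finite G] [FaithfulSMul G Ω] [IsPreprimitive G Ω] [Nonempty Ω]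
    (h3 : NoThree G Ω) {N : Subgroup G} [hNn : N.Normal] (hN : N ≠ ⊥)
    (hNmin : ∀ K : Subgroup G, K.Normal → K ≠ ⊥ → K ≤ N → K = N)
    (hZN : ∀ z ∈ N, (∀ m ∈ N, z * m = m * z) → z = 1)
    {M : Subgroup G} (hMN : M ≤ N) (hMb : M ≠ ⊥) (hMne : M ≠ N)
    (hMnorm : ∀ x ∈ N, ∀ k ∈ M, x * k * x⁻¹ ∈ M)
    (hMmin : ∀ K ≤ M, K ≠ ⊥ → (∀ x ∈ N, ∀ k ∈ K, x * k * x⁻¹ ∈ K) → K = M) : False := by
  classical
  have TN : Trans N Ω := trans_of_normal hN
  -- conjugates of `M`
  have hconjN : ∀ g : G, M.map (MulAut.conj g).toMonoidHom ≤ N := by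
    rintro g _ ⟨m, hm, rfl⟩
    exact hNn.conj_mem m (hMN hm) g
  have hconjnorm : ∀ g : G, ∀ x ∈ N, ∀ k ∈ M.map (MulAut.conj g).toMonoidHom,
      x * k * x⁻¹ ∈ M.map (MulAut.conj g).toMonoidHom := by
    rintro g x hx _ ⟨m, hm, rfl⟩
    refine ⟨(g⁻¹ * x * g) * m * (g⁻¹ * x * g)⁻¹, hMnorm _ ?_ m hm, ?_⟩
    · simpa using hNn.conj_mem x hx g⁻¹
    · simp only [MulEquiv.coe_toMonoidHom, MulAut.conj_apply]
      group
  have hcomm : ∀ g : G, M.map (MulAut.conj g).toMonoidHom = M ∨
      ∀ m ∈ M, ∀ m' ∈ M.map (MulAut.conj g).toMonoidHom, m * m' = m' * m := by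
    intro g
    set M' := M.map (MulAut.conj g).toMonoidHom with hM'
    by_cases hinf : M ⊓ M' = ⊥
    · right
      intro m hm m' hm'
      have h1 : m * m' * m⁻¹ * m'⁻¹ ∈ M ⊓ M' := by
        constructor
        · have := hMnorm m' (hconjN g hm') m⁻¹ (M.inv_mem hm)
          have h2 := M.mul_mem hm this
          simpa [mul_assoc] using h2
        · have := hconjnorm g m (hMN hm) m' hm'
          exact M'.mul_mem this (M'.inv_mem hm')
      rw [hinf, Subgroup.mem_bot] at h1
      have h2 : m * m' * m⁻¹ = m' := by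
        rwa [mul_inv_eq_one] at h1
      rw [mul_inv_eq_iff_eq_mul] at h2
      exact h2
    · left
      have h1 : M ⊓ M' = M := by
        apply hMmin _ inf_le_left hinf
        intro x hx k hk
        exact ⟨hMnorm x hx k hk.1, hconjnorm g x hx k hk.2⟩
      have h2 : M ≤ M' := inf_eq_left.mp h1
      symm
      apply Subgroup.eq_of_le_of_card_ge h2
      rw [hM', Subgroup.card_map_of_injective (MulEquiv.injective _)]
  -- the decomposition
  let T : Subgroup G :=
    { carrier := {x | ∃ a ∈ M, ∃ c, c ∈ N ∧ (∀ m ∈ M, c * m = m * c) ∧ x = a * c}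
      mul_mem' := by
        rintro _ _ ⟨a, ha, c, hcN, hc, rfl⟩ ⟨a', ha', c', hcN', hc', rfl⟩
        refine ⟨a * a', M.mul_mem ha ha', c * c', N.mul_mem hcN hcN', ?_, ?_⟩
        · intro m hm
          rw [mul_assoc, hc' m hm, ← mul_assoc, hc m hm, mul_assoc]
        · calc a * c * (a' * c') = a * (c * a') * c' := by group
            _ = a * (a' * c) * c' := by rw [hc a' ha']
            _ = a * a' * (c * c') := by group
      one_mem' := ⟨1, M.one_mem, 1, N.one_mem, by simp, by simp⟩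
      inv_mem' := by
        rintro _ ⟨a, ha, c, hcN, hc, rfl⟩
        refine ⟨a⁻¹, M.inv_mem ha, c⁻¹, N.inv_mem hcN, ?_, ?_⟩
        · intro m hm
          have := hc m hm
          calc c⁻¹ * m = c⁻¹ * (m * c) * c⁻¹ := by group
            _ = c⁻¹ * (c * m) * c⁻¹ := by rw [this]
            _ = m * c⁻¹ := by group
        · have := hc a⁻¹ (M.inv_mem ha)
          rw [mul_inv_rev]
          calc c⁻¹ * a⁻¹ = c⁻¹ * (a⁻¹ * c) * c⁻¹ := by group
            _ = c⁻¹ * (c * a⁻¹) * c⁻¹ := by rw [this]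
            _ = a⁻¹ * c⁻¹ := by group }
  have hNcl : Subgroup.normalClosure (M : Set G) = N := by
    apply hNmin _ inferInstance
    · intro h
      apply hMb
      rw [eq_bot_iff, ← h]
      exact Subgroup.le_normalClosure
    · exact Subgroup.normalClosure_le_normal hMN
  have hNT : N ≤ T := by
    rw [← hNcl]
    change Subgroup.closure _ ≤ T
    rw [Subgroup.closure_le]
    intro x hx
    obtain ⟨m, hm, hc⟩ := Group.mem_conjugatesOfSet_iff.mp hx
    obtain ⟨g, rfl⟩ := isConj_iff.mp hc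
    have hmem : g * m * g⁻¹ ∈ M.map (MulAut.conj g).toMonoidHom := ⟨m, hm, rfl⟩
    rcases hcomm g with h | h
    · rw [h] at hmem
      exact ⟨_, hmem, 1, N.one_mem, by simp, by simp⟩
    · refine ⟨1, M.one_mem, _, hNn.conj_mem m (hMN hm) g, ?_, by simp⟩
      intro k hk
      exact (h k hk _ hmem).symm
  have hdec : ∀ y ∈ N, ∃ a ∈ M, ∃ c, (∀ m ∈ M, c * m = m * c) ∧ y = a * c := by
    intro y hy
    obtain ⟨a, ha, c, _, hc, h⟩ := hNT hy
    exact ⟨a, ha, c, hc, h⟩
  have hdec' : ∀ y ∈ N, ∃ a ∈ M, ∃ c, c ∈ N ∧ (∀ m ∈ M, c * m = m * c) ∧ y = a * c :=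
    fun y hy => hNT hy
  -- the centre of `M` is trivial
  have hZM : ∀ z ∈ M, (∀ m ∈ M, z * m = m * z) → z = 1 := by
    by_contra hcon
    push Not at hcon
    obtain ⟨z, hz, hzc, hz1⟩ := hcon
    let Z : Subgroup G := M ⊓ Subgroup.centralizer (M : Set G)
    have hZeq : Z = M := by
      apply hMmin Z inf_le_left
      · intro h
        apply hz1
        have : z ∈ Z := ⟨hz, Subgroup.mem_centralizer_iff.mpr fun m hm => (hzc m hm).symm⟩
        rw [h] at this
        simpa using this
      · rintro x hx k ⟨hk, hk2⟩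
        refine ⟨hMnorm x hx k hk, ?_⟩
        change x * k * x⁻¹ ∈ Subgroup.centralizer (M : Set G)
        rw [Subgroup.mem_centralizer_iff]
        intro m hm
        have h1 : x⁻¹ * m * x ∈ M := by simpa using hMnorm x⁻¹ (N.inv_mem hx) m hm
        have h2 : (x⁻¹ * m * x) * k = k * (x⁻¹ * m * x) :=
          (Subgroup.mem_centralizer_iff.mp (show k ∈ Subgroup.centralizer (M : Set G) from hk2)) _ h1
        calc m * (x * k * x⁻¹) = x * ((x⁻¹ * m * x) * k) * x⁻¹ := by group
          _ = x * (k * (x⁻¹ * m * x)) * x⁻¹ := by rw [h2]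
          _ = x * k * x⁻¹ * m := by group
    -- then `M` is central in `N`
    have hMab : ∀ m ∈ M, ∀ k ∈ M, m * k = k * m := by
      intro m hm k hk
      have : k ∈ Z := by rw [hZeq]; exact hk
      exact (Subgroup.mem_centralizer_iff.mp (show k ∈ Subgroup.centralizer (M : Set G) from this.2)) m hm
    apply hz1
    apply hZN z (hMN hz)
    intro y hy
    obtain ⟨a, ha, c, hc, rfl⟩ := hdec y hy
    calc z * (a * c) = (z * a) * c := by group
      _ = (a * z) * c := by rw [hMab z hz a ha]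
      _ = a * (z * c) := by group
      _ = a * (c * z) := by rw [hc z hz]
      _ = a * c * z := by group
  obtain ⟨m₁, hm₁, m₂, hm₂, hp, hq, hpq⟩ := exists_two_primes hMb hZM
  have hne : ∀ m : G, (orderOf m).Prime → m ≠ 1 := by
    rintro m hm rfl
    simp at hm
    exact Nat.not_prime_one hm
  by_cases hMt : Trans M Ω
  · -- `M` is transitive
    have hexg : ∃ g : G, M.map (MulAut.conj g).toMonoidHom ≠ M := by
      by_contra hcon
      push Not at hcon
      have hMnormal : M.Normal := by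
        constructor
        intro n hn g
        rw [← hcon g]
        exact ⟨n, hn, rfl⟩
      exact hMne (hNmin M hMnormal hMb hMN)
    obtain ⟨g, hg⟩ := hexg
    have hcm := (hcomm g).resolve_left hg
    have Tg : Trans (M.map (MulAut.conj g).toMonoidHom) Ω := hMt.conj g
    have derM : ∀ m ∈ M, m ≠ 1 → Der Ω m := by
      intro m hm hm1 ω hω
      apply hm1
      exact eq_one_of_commute_of_fix Tg (fun s hs => hcm m hm s hs) hω
    obtain ⟨b, hbdef⟩ : ∃ b, b = g * m₂ * g⁻¹ := ⟨_, rfl⟩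
    have hbmem : b ∈ M.map (MulAut.conj g).toMonoidHom := ⟨m₂, hm₂, hbdef.symm⟩
    have hbo : orderOf b = orderOf m₂ :=
      (orderOf_eq_of_isConj (isConj_iff.mpr ⟨g, hbdef.symm⟩)).symm
    obtain ⟨α⟩ := ‹Nonempty Ω›
    obtain ⟨y, hy, hyα⟩ := hMt α (b • α)
    have hbM : ∀ k ∈ M, b * k = k * b := fun k hk => (hcm k hk b hbmem).symm
    have hpow : ∀ j : ℕ, b ^ j • α = y ^ j • α := by
      intro j
      induction j with
      | zero => simp
      | succ j ih =>
        calc b ^ (j + 1) • α = b ^ j • (b • α) := by rw [pow_succ, mul_smul]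
          _ = b ^ j • (y • α) := by rw [hyα]
          _ = (b ^ j * y) • α := by rw [mul_smul]
          _ = (y * b ^ j) • α := by
            rw [((show Commute b y from hbM y hy).pow_left j).eq]
          _ = y • (y ^ j • α) := by rw [mul_smul, ih]
          _ = y ^ (j + 1) • α := by rw [pow_succ', mul_smul]
    set q := orderOf m₂ with hqdef
    set p := orderOf m₁ with hpdef
    have hbq : b ^ q = 1 := by rw [← hbo]; exact pow_orderOf_eq_one b
    have hyq : y ^ q = 1 := by
      by_contra hne1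
      apply derM _ (M.pow_mem hy q) hne1 α
      rw [← hpow q, hbq, one_smul]
    have hm₁q : m₁ ^ q ≠ 1 := by
      intro h
      have := orderOf_dvd_of_pow_eq_one h
      exact hpq ((Nat.prime_dvd_prime_iff_eq hp hq).mp this)
    have hbp : b ^ p ≠ 1 := by
      intro h
      have := orderOf_dvd_of_pow_eq_one h
      rw [hbo] at this
      exact hpq ((Nat.prime_dvd_prime_iff_eq hq hp).mp this).symm
    have hcommx : Commute m₁ b := (hcm m₁ hm₁ b hbmem)
    have derx : Der Ω (m₁ * b) := by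
      intro ξ hξ
      obtain ⟨k, hk, rfl⟩ := hMt α ξ
      have h1 : (k⁻¹ * m₁ * k * y) • α = α := by
        have h2 : (m₁ * (k * y)) • α = k • α := by
          calc (m₁ * (k * y)) • α = m₁ • (k • (y • α)) := by simp only [mul_smul]
            _ = m₁ • (k • (b • α)) := by rw [hyα]
            _ = m₁ • ((k * b) • α) := by rw [mul_smul]
            _ = m₁ • ((b * k) • α) := by rw [hbM k hk]
            _ = (m₁ * b) • (k • α) := by simp only [mul_smul]
            _ = k • α := hξ
        have h3 := congrArg (fun w => k⁻¹ • w) h2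
        simp only [inv_smul_smul] at h3
        calc (k⁻¹ * m₁ * k * y) • α = k⁻¹ • (m₁ * (k * y)) • α := by simp only [mul_smul]
          _ = α := h3
      have h2 : k⁻¹ * m₁ * k * y = 1 := by
        by_contra hne1
        exact derM _ (M.mul_mem (M.mul_mem (M.mul_mem (M.inv_mem hk) hm₁) hk) hy) hne1 α h1
      have h3 : k⁻¹ * m₁ * k = y⁻¹ := eq_inv_of_mul_eq_one_left h2
      have h4 : (k⁻¹ * m₁ * k) ^ q = 1 := by rw [h3, inv_pow, hyq, inv_one]
      have h5 : IsConj m₁ (k⁻¹ * m₁ * k) := isConj_iff.mpr ⟨k⁻¹, by group⟩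
      have h6 := (h5.pow q)
      rw [h4, isConj_one_left] at h6
      exact hm₁q h6
    rcases h3 m₁ m₂ (m₁ * b) (derM _ hm₁ (hne _ hp)) (derM _ hm₂ (hne _ hq)) derx with h | h | h
    · exact hpq (orderOf_eq_of_isConj h)
    · have h1 := h.pow p
      have hm1p : m₁ ^ p = 1 := pow_orderOf_eq_one m₁
      rw [hcommx.mul_pow, hm1p, one_mul, isConj_one_right] at h1
      exact hbp h1
    · have h1 := h.pow q
      have hm2q : m₂ ^ q = 1 := pow_orderOf_eq_one m₂
      rw [hcommx.mul_pow, hbq, mul_one, hm2q, isConj_one_right] at h1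
      exact hm₁q h1
  · -- `M` is not transitive
    obtain ⟨ω₀⟩ := ‹Nonempty Ω›
    let H : Subgroup ↥N :=
      { carrier := {x | ∃ m ∈ M, (x : G) • ω₀ = m • ω₀}
        mul_mem' := by
          rintro x x' ⟨m, hm, h⟩ ⟨m', hm', h'⟩
          refine ⟨(x : G) * m' * (x : G)⁻¹ * m, M.mul_mem (hMnorm _ x.2 _ hm') hm, ?_⟩
          simp only [Subgroup.coe_mul, mul_smul, h', ← h]
          simp
        one_mem' := ⟨1, M.one_mem, by simp⟩
        inv_mem' := by
          rintro x ⟨m, hm, h⟩
          refine ⟨((x : G)⁻¹ * m * x)⁻¹, M.inv_mem ?_, ?_⟩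
          · simpa using hMnorm (x : G)⁻¹ (N.inv_mem x.2) m hm
          · simp only [Subgroup.coe_inv, mul_inv_rev, inv_inv, mul_smul, h, inv_smul_smul] }
    have hHne : H ≠ ⊤ := by
      intro hH
      apply hMt
      have key : ∀ ξ : Ω, ∃ m ∈ M, m • ω₀ = ξ := by
        intro ξ
        obtain ⟨x, hx, rfl⟩ := TN ω₀ ξ
        have : (⟨x, hx⟩ : ↥N) ∈ H := by rw [hH]; trivial
        obtain ⟨m, hm, h⟩ := this
        exact ⟨m, hm, h.symm⟩
      intro a b
      obtain ⟨m, hm, rfl⟩ := key a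
      obtain ⟨m', hm', rfl⟩ := key b
      exact ⟨m' * m⁻¹, M.mul_mem hm' (M.inv_mem hm), by simp [mul_smul]⟩
    obtain ⟨⟨n, hn⟩, hnH⟩ := exists_not_mem_conj H hHne
    have dern : ∀ m ∈ M, Der Ω (n * m) := by
      intro m hm ξ hξ
      obtain ⟨g, hg, rfl⟩ := TN ω₀ ξ
      apply hnH ⟨g, hg⟩
      have key : (((⟨g, hg⟩ : ↥N)⁻¹ * ⟨n, hn⟩ * ⟨g, hg⟩)⁻¹ : ↥N) ∈ H := by
        refine ⟨g⁻¹ * m * g, by simpa using hMnorm g⁻¹ (N.inv_mem hg) m hm, ?_⟩
        have h1 : (n * m) • g • ω₀ = g • ω₀ := hξ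
        have h2 : m • g • ω₀ = n⁻¹ • g • ω₀ := by
          rw [eq_inv_smul_iff, ← mul_smul]; exact h1
        simp only [Subgroup.coe_mul, Subgroup.coe_inv, mul_inv_rev, inv_inv, mul_smul, h2]
      simpa using H.inv_mem key
    obtain ⟨a, ha, c, hcN, hc, rfl⟩ := hdec' n hn
    have derc : ∀ m ∈ M, Der Ω (c * m) := by
      intro m hm
      have := dern (a⁻¹ * m) (M.mul_mem (M.inv_mem ha) hm)
      have e : a * c * (a⁻¹ * m) = c * m := by
        calc a * c * (a⁻¹ * m) = a * (c * a⁻¹) * m := by group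
          _ = a * (a⁻¹ * c) * m := by rw [hc a⁻¹ (M.inv_mem ha)]
          _ = c * m := by group
      rwa [e] at this
    have derc1 : Der Ω c := by simpa using derc 1 M.one_mem
    have hlt : ∀ m ∈ M, m ≠ 1 → cent N (c * m) < cent N c :=
      fun m hm hm1 => cent_lt hMN hZM hdec hc hm hm1
    rcases h3 c (c * m₁) (c * m₂) derc1 (derc _ hm₁) (derc _ hm₂) with h | h | h
    · exact absurd (cent_conj N h) (hlt _ hm₁ (hne _ hp)).ne'
    · exact absurd (cent_conj N h) (hlt _ hm₂ (hne _ hq)).ne'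
    · have h1 := h.pow (orderOf m₁)
      have c1 : Commute c m₁ := hc m₁ hm₁
      have c2 : Commute c m₂ := hc m₂ hm₂
      rw [c1.mul_pow, c2.mul_pow, pow_orderOf_eq_one, mul_one] at h1
      have hne2 : m₂ ^ orderOf m₁ ≠ 1 := by
        intro h2
        have := orderOf_dvd_of_pow_eq_one h2
        exact hpq ((Nat.prime_dvd_prime_iff_eq hq hp).mp this).symm
      have hc' : ∀ m ∈ M, c ^ orderOf m₁ * m = m * c ^ orderOf m₁ := by
        intro m hm
        exact ((show Commute c m from hc m hm).pow_left _).eq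
      have := cent_lt hMN hZM hdec hc' (M.pow_mem hm₂ (orderOf m₁)) hne2
      exact absurd (cent_conj N h1) this.ne'

/-- The reduction theorem. -/
theorem exists_abelian_transitive [Finite G] [Finite Ω] [FaithfulSMul G Ω] [IsPreprimitive G Ω]
    (hΩ : 2 ≤ Nat.card Ω)
    (hnas : ¬ ∃ T : Subgroup G, T.Normal ∧ IsSimpleGroup T ∧ ¬ IsMulCommutative T ∧
      Subgroup.centralizer (T : Set G) = ⊥)
    (h3 : NoThree G Ω) :
    ∃ N : Subgroup G, N.Normal ∧ N ≠ ⊥ ∧ (∀ x ∈ N, ∀ y ∈ N, x * y = y * x) ∧ Trans N Ω := by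
  classical
  have hnΩ : Nonempty Ω := (Nat.card_pos_iff.mp (by omega : 0 < Nat.card Ω)).1
  have hG : Nontrivial G := by
    by_contra hnt
    rw [not_nontrivial_iff_subsingleton] at hnt
    have hsub : Subsingleton Ω := by
      constructor
      intro a b
      obtain ⟨g, hg⟩ := MulAction.exists_smul_eq G a b
      rw [Subsingleton.elim g 1, one_smul] at hg
      exact hg
    have := Finite.card_le_one_iff_subsingleton.mpr hsub
    omega
  obtain ⟨N, ⟨hNn, hNb⟩, hNmin⟩ := exists_minimal_of_wellFoundedLT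
    (fun K : Subgroup G => K.Normal ∧ K ≠ ⊥) ⟨⊤, inferInstance, top_ne_bot⟩
  have hNmin' : ∀ K : Subgroup G, K.Normal → K ≠ ⊥ → K ≤ N → K = N :=
    fun K hK hKb hle => le_antisymm hle (hNmin ⟨hK, hKb⟩ hle)
  by_cases hab : ∀ x ∈ N, ∀ y ∈ N, x * y = y * x
  · exact ⟨N, hNn, hNb, hab, trans_of_normal hNb⟩
  exfalso
  have hZN : ∀ z ∈ N, (∀ m ∈ N, z * m = m * z) → z = 1 := by
    intro z hz hzc
    by_contra hz1
    let Z : Subgroup G := N ⊓ Subgroup.centralizer (N : Set G)
    have hZn : Z.Normal := inferInstance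
    have hZeq : Z = N := by
      apply hNmin' Z hZn _ inf_le_left
      intro h
      apply hz1
      have : z ∈ Z := ⟨hz, Subgroup.mem_centralizer_iff.mpr fun m hm => (hzc m hm).symm⟩
      rw [h] at this
      simpa using this
    apply hab
    intro x hx y hy
    have : y ∈ Z := by rw [hZeq]; exact hy
    exact (Subgroup.mem_centralizer_iff.mp (show y ∈ Subgroup.centralizer (N : Set G) from this.2)) x hx
  have hC := centralizer_eq_bot (Ω := Ω) h3 hNb hZN
  -- `N` is not simple
  have hnsimple : ¬ IsSimpleGroup N := by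
    intro hs
    apply hnas
    refine ⟨N, hNn, hs, ?_, hC⟩
    intro hcomm
    apply hab
    intro x hx y hy
    have := hcomm.is_comm.comm ⟨x, hx⟩ ⟨y, hy⟩
    exact congrArg Subtype.val this
  have hntN : Nontrivial N := (Subgroup.nontrivial_iff_ne_bot N).mpr hNb
  have hexK : ∃ K : Subgroup ↥N, K.Normal ∧ K ≠ ⊥ ∧ K ≠ ⊤ := by
    by_contra hno
    push Not at hno
    apply hnsimple
    refine ⟨?_⟩
    intro K hK
    by_cases hKb : K = ⊥
    · exact Or.inl hKb
    · exact Or.inr (hno K hK hKb)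
  obtain ⟨K, hKn, hKb, hKt⟩ := hexK
  let K₀ : Subgroup G := K.map N.subtype
  have hK₀P : K₀ ≠ ⊥ ∧ K₀ ≤ N ∧ ∀ x ∈ N, ∀ k ∈ K₀, x * k * x⁻¹ ∈ K₀ := by
    refine ⟨?_, ?_, ?_⟩
    · intro h
      apply hKb
      exact (Subgroup.map_eq_bot_iff_of_injective _ N.subtype_injective).mp h
    · exact Subgroup.map_subtype_le K
    · rintro x hx _ ⟨k, hk, rfl⟩
      exact ⟨⟨x, hx⟩ * k * ⟨x, hx⟩⁻¹, hKn.conj_mem k hk ⟨x, hx⟩, by simp⟩
  obtain ⟨M, hMK, ⟨hMb, hMN, hMnorm⟩, hMmin⟩ := exists_minimal_le_of_wellFoundedLT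
    (fun L : Subgroup G => L ≠ ⊥ ∧ L ≤ N ∧ ∀ x ∈ N, ∀ k ∈ L, x * k * x⁻¹ ∈ L) K₀ hK₀P
  have hMne : M ≠ N := by
    rintro rfl
    apply hKt
    rw [eq_top_iff]
    intro x _
    have : (x : G) ∈ K₀ := hMK x.2
    obtain ⟨k, hk, he⟩ := this
    have : k = x := Subtype.ext he
    rwa [← this]
  have hMmin' : ∀ L ≤ M, L ≠ ⊥ → (∀ x ∈ N, ∀ k ∈ L, x * k * x⁻¹ ∈ L) → L = M := by
    intro L hL hLb hLn
    exact le_antisymm hL (hMmin ⟨hLb, hL.trans hMN, hLn⟩ hL)
  exact no_proper_minimal (Ω := Ω) h3 hNb hNmin' hZN hMN hMb hMne hMnorm hMmin'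

end Cfsg.Agent.Lib.Derangement
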